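import Cfsg.Agent.H423.TI.Quat

/-!
# S4819, S4820, row `PSL₃(4)`: the outer part, and `GoalFrame` (helper423)

* `BF.outer` : `Outer`, from `GoalAut`;
* `goalFrame` : `GoalAut → GoalFrame`.
-/

set_option autoImplicit false

namespace Cfsg.Agent.H423.TI

open Subgroup Cfsg Cfsg.Agent.H155.TI

universe u

namespace BF

variable {Γ : Type u} [Group Γ] [Finite Γ] {Z L P H : Subgroup Γ} {x : Γ} (B : BF Z L P H x)

include B

omit [Finite Γ] in
/-- representatives of the cosets of `L` centralizing `x` -/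
theorem coset (g : Γ) : ∃ c ∈ H, c * x = x * c ∧ ∃ l ∈ L, g = l * c := by
  obtain ⟨l, hl, h, hh, rfl⟩ := B.HL g
  have h1 : h * x * h⁻¹ ≠ 1 := by
    intro h2
    apply B.x1
    have h3 : x = h⁻¹ * (h * x * h⁻¹) * h := by group
    rw [h3, h2]
    group
  obtain ⟨k, hk, hkL, hkx⟩ := B.tr _ (B.conj_mem hh B.xP) h1
  refine ⟨k⁻¹ * h, H.mul_mem (H.inv_mem hk) hh, ?_, l * k, L.mul_mem hl hkL, by group⟩
  calc k⁻¹ * h * x = k⁻¹ * (h * x * h⁻¹) * h := by group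
    _ = k⁻¹ * (k * x * k⁻¹) * h := by rw [hkx]
    _ = _ := by group

omit [Finite Γ] in
theorem mem_Z {c : Γ} (hc : c ∈ H) (hcL : c ∈ L) (hcx : c * x = x * c) : c ∈ Z := B.cH c hc hcL x B.xP B.x1 hcx

omit [Finite Γ] in
theorem comm_sq {c : Γ} (hc : c ∈ H) (h2 : c * c ∈ L) (hcx : c * x = x * c) : c * c ∈ Z := by
  refine B.mem_Z (H.mul_mem hc hc) h2 ?_
  rw [mul_assoc, hcx, ← mul_assoc, hcx, mul_assoc]

theorem exists_y : ∃ y1 ∈ P, y1 ∉ zpowers x ∧ ∀ y ∈ P, y ∈ zpowers x ∨ y * y1 ∈ zpowers x ∨ y * y1⁻¹ ∈ zpowers x := by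
  classical
  have f3 : Fact (Nat.Prime 3) := ⟨Nat.prime_three⟩
  have hx3 : orderOf x = 3 := orderOf_three B.x1 (B.P3 x B.xP)
  have hKP : zpowers x ≤ P := by rw [zpowers_le]; exact B.xP
  have hK : Nat.card (zpowers x) = 3 := by rw [Nat.card_zpowers, hx3]
  let K := (zpowers x).subgroupOf P
  have hKc : Nat.card K = 3 := by rw [Nat.card_congr (Subgroup.subgroupOfEquivOfLe hKP).toEquiv, hK]
  have hKn : K.Normal := ⟨fun k hk g => by
    have h1 : g * k * g⁻¹ = k := by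
      apply Subtype.ext
      show (g : Γ) * k * (g : Γ)⁻¹ = k
      rw [B.comm g g.2 k k.2, mul_inv_cancel_right]
    rw [h1]
    exact hk⟩
  have hq : Nat.card (P ⧸ K) = 3 := by
    have h1 := K.card_mul_index
    rw [hKc, B.Pc, Subgroup.index_eq_card] at h1
    omega
  obtain ⟨v, hv⟩ : ∃ v : P ⧸ K, v ≠ 1 := by
    have : Nontrivial (P ⧸ K) := by
      rw [← Finite.one_lt_card_iff_nontrivial, hq]
      norm_num
    exact exists_ne 1
  obtain ⟨y1, rfl⟩ := QuotientGroup.mk_surjective v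
  have hy1 : (y1 : Γ) ∉ zpowers x := fun h => hv ((QuotientGroup.eq_one_iff y1).2 (mem_subgroupOf.2 h))
  refine ⟨y1, y1.2, hy1, fun y hy => ?_⟩
  have h1 : (QuotientGroup.mk ⟨y, hy⟩ : P ⧸ K) ∈ zpowers (QuotientGroup.mk y1 : P ⧸ K) :=
    mem_zpowers_of_prime_card hq hv
  have ho : orderOf (QuotientGroup.mk y1 : P ⧸ K) = 3 := by
    refine orderOf_eq_prime ?_ hv
    rw [← hq]
    exact pow_card_eq_one'
  rw [mem_zpowers_iff_mem_range_orderOf, ho] at h1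
  simp only [Finset.mem_image, Finset.mem_range] at h1
  obtain ⟨n, hn, h2⟩ := h1
  have h3 : ∀ w : P, (QuotientGroup.mk w : P ⧸ K) = 1 → (w : Γ) ∈ zpowers x := fun w hw =>
    mem_subgroupOf.1 ((QuotientGroup.eq_one_iff w).1 hw)
  have hn' : n = 0 ∨ n = 1 ∨ n = 2 := by omega
  rcases hn' with rfl | rfl | rfl
  · left
    refine h3 ⟨y, hy⟩ ?_
    rw [← h2, pow_zero]
  · right
    right
    refine h3 (⟨y, hy⟩ * y1⁻¹) ?_
    rw [QuotientGroup.mk_mul, QuotientGroup.mk_inv, ← h2, pow_one, mul_inv_cancel]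
  · right
    left
    refine h3 (⟨y, hy⟩ * y1) ?_
    rw [QuotientGroup.mk_mul, ← h2]
    have h4 : (QuotientGroup.mk y1 : P ⧸ K) ^ 3 = 1 := by rw [← ho]; exact pow_orderOf_eq_one _
    rw [← h4, pow_succ (QuotientGroup.mk y1 : P ⧸ K) 2]

omit [Finite Γ] B in
theorem comm_zpow {c k : Γ} (hcx : c * x = x * c) (hk : k ∈ zpowers x) : c * k = k * c := by
  obtain ⟨n, rfl⟩ := mem_zpowers_iff.1 hk
  exact ((show Commute c x from hcx).zpow_right n).eq

omit [Finite Γ] in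
/-- an element centralizing `x`, acting trivially on `P / ⟨x⟩`, with square in `Z`, centralizes `P` -/
theorem cent_of {y1 : Γ}
    (hy : ∀ y ∈ P, y ∈ zpowers x ∨ y * y1 ∈ zpowers x ∨ y * y1⁻¹ ∈ zpowers x) {c : Γ} (hc : c ∈ H)
    (hcx : c * x = x * c) (h2 : c * c ∈ L) (h3 : c * y1 * c⁻¹ * y1⁻¹ ∈ zpowers x) : ∀ y ∈ P, c * y = y * c := by
  have hKP : zpowers x ≤ P := by rw [zpowers_le]; exact B.xP
  set k := c * y1 * c⁻¹ * y1⁻¹ with hk
  have hkc : c * k = k * c := comm_zpow hcx h3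
  have hc2 := B.zc (B.comm_sq hc h2 hcx) y1
  have h4 : c * y1 * c⁻¹ = k * y1 := by rw [hk]; group
  have h5 : k * k = 1 := by
    have h6 : (c * c) * y1 * (c * c)⁻¹ = k * k * y1 := by
      calc (c * c) * y1 * (c * c)⁻¹ = c * (c * y1 * c⁻¹) * c⁻¹ := by group
        _ = c * (k * y1) * c⁻¹ := by rw [h4]
        _ = (c * k) * y1 * c⁻¹ := by group
        _ = (k * c) * y1 * c⁻¹ := by rw [hkc]
        _ = k * (c * y1 * c⁻¹) := by group
        _ = k * (k * y1) := by rw [h4]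
        _ = _ := by group
    rw [hc2, mul_inv_cancel_right] at h6
    have h7 : 1 * y1 = k * k * y1 := by rw [one_mul]; exact h6
    exact (mul_right_cancel h7).symm
  have h6 : k = 1 := by
    have h7 := B.P3 k (hKP h3)
    rw [pow_succ, pow_two, h5, one_mul] at h7
    exact h7
  have h7 : c * y1 = y1 * c := by
    rw [h6, one_mul] at h4
    exact mul_inv_eq_iff_eq_mul.1 h4
  intro y hyP
  have hcy1 : Commute c y1 := h7
  rcases hy y hyP with h8 | h8 | h8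
  · exact comm_zpow hcx h8
  · have h9 : Commute c (y * y1) := comm_zpow hcx h8
    have h10 : y = (y * y1) * y1⁻¹ := by group
    rw [h10]
    exact (h9.mul_right hcy1.inv_right).eq
  · have h9 : Commute c (y * y1⁻¹) := comm_zpow hcx h8
    have h10 : y = (y * y1⁻¹) * y1 := by group
    rw [h10]
    exact (h9.mul_right hcy1).eq

omit [Finite Γ] in
/-- an element centralizing `x` centralizes `P` or inverts `P / ⟨x⟩` -/
theorem cases {y1 : Γ} (hy1 : y1 ∈ P) (hy1x : y1 ∉ zpowers x)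
    (hy : ∀ y ∈ P, y ∈ zpowers x ∨ y * y1 ∈ zpowers x ∨ y * y1⁻¹ ∈ zpowers x) {c : Γ} (hc : c ∈ H)
    (hcx : c * x = x * c) (h2 : c * c ∈ L) :
    (∀ y ∈ P, c * y = y * c) ∨ c * y1 * c⁻¹ * y1 ∈ zpowers x := by
  rcases hy _ (B.conj_mem hc hy1) with h3 | h3 | h3
  · exfalso
    apply hy1x
    have h4 := comm_zpow hcx h3
    have h5 : y1 = c * y1 * c⁻¹ := by
      have h6 : c⁻¹ * (c * (c * y1 * c⁻¹)) = c⁻¹ * (c * y1 * c⁻¹ * c) := by rw [h4]
      have h7 : c⁻¹ * (c * (c * y1 * c⁻¹)) = c * y1 * c⁻¹ := by group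
      have h8 : c⁻¹ * (c * y1 * c⁻¹ * c) = y1 := by group
      rw [h7, h8] at h6
      exact h6.symm
    rw [h5]
    exact h3
  · exact Or.inr h3
  · exact Or.inl (B.cent_of hy hc hcx h2 h3)

omit [Finite Γ] in
theorem outer_two (h : L.index = 2) : ∃ c ∈ H, c ∉ L ∧ c * x = x * c := by
  obtain ⟨g, hg⟩ : ∃ g : Γ, g ∉ L := by
    by_contra hcon
    push Not at hcon
    have hLt : L = ⊤ := eq_top_iff.2 fun g _ => hcon g
    rw [hLt, index_top] at h
    omega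
  obtain ⟨c, hc, hcx, l, hl, rfl⟩ := B.coset g
  exact ⟨c, hc, fun h1 => hg (L.mul_mem hl h1), hcx⟩

theorem outer_four (h : L.index = 4) (hsq : ∀ g : Γ, g * g ∈ L) (g : Γ)
    (hg : ∀ l ∈ L, ∃ y ∈ P, l * g * y ≠ y * (l * g)) :
    ∃ c ∈ H, ∃ r ∈ H, c ∉ L ∧ r ∉ L ∧ c * r ∉ L ∧ c * c ∈ L ∧ r * r ∈ L ∧
      (∀ y ∈ P, c * y = y * c) ∧ r * x = x * r ∧ ¬ (∀ y ∈ P, r * y = y * r) := by
  classical
  have hLn := B.Ln
  obtain ⟨y1, hy1, hy1x, hy⟩ := B.exists_y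
  obtain ⟨r, hr, hrx, l, hl, hlr⟩ := B.coset g
  have hrP : ¬ ∀ y ∈ P, r * y = y * r := by
    obtain ⟨y, hyP, h1⟩ := hg l⁻¹ (L.inv_mem hl)
    intro h2
    apply h1
    have h3 : l⁻¹ * g = r := by rw [hlr]; group
    rw [h3]
    exact h2 y hyP
  have hcen : ∀ z ∈ Z, ∀ y ∈ P, z * y = y * z := fun z hz y _ => B.zc hz y
  have hrL : r ∉ L := fun h1 => hrP (hcen r (B.mem_Z hr h1 hrx))
  -- the element `c`
  obtain ⟨c, hc, hcx, hcL, hcP⟩ : ∃ c ∈ H, c * x = x * c ∧ c ∉ L ∧ ∀ y ∈ P, c * y = y * c := by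
    obtain ⟨γ, hγ1, hγ2⟩ : ∃ γ : Γ, γ ∉ L ∧ γ * r ∉ L := by
      by_contra hcon
      push Not at hcon
      have hft : Fintype (Γ ⧸ L) := Fintype.ofFinite _
      have h1 : (Finset.univ : Finset (Γ ⧸ L)) ⊆ {(1 : Γ ⧸ L), (QuotientGroup.mk r⁻¹ : Γ ⧸ L)} := by
        intro v _
        obtain ⟨γ, rfl⟩ := QuotientGroup.mk_surjective v
        rw [Finset.mem_insert, Finset.mem_singleton]
        by_cases h2 : γ ∈ L
        · left
          exact (QuotientGroup.eq_one_iff γ).2 h2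
        · right
          have h3 := (QuotientGroup.eq_one_iff (N := L) (γ * r)).2 (hcon γ h2)
          rw [QuotientGroup.mk_mul] at h3
          rw [QuotientGroup.mk_inv]
          exact eq_inv_of_mul_eq_one_left h3
      have h2 := Finset.card_le_card h1
      rw [Finset.card_univ, ← Nat.card_eq_fintype_card, ← Subgroup.index_eq_card, h] at h2
      have h3 := Finset.card_le_two (a := (1 : Γ ⧸ L)) (b := (QuotientGroup.mk r⁻¹ : Γ ⧸ L))
      omega
    obtain ⟨c1, hc1, hc1x, l1, hl1, rfl⟩ := B.coset γ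
    have hc1L : c1 ∉ L := fun h1 => hγ1 (L.mul_mem hl1 h1)
    have hc1rL : c1 * r ∉ L := fun h1 => hγ2 (by rw [mul_assoc]; exact L.mul_mem hl1 h1)
    rcases B.cases hy1 hy1x hy hc1 hc1x (hsq c1) with h1 | h1
    · exact ⟨c1, hc1, hc1x, hc1L, h1⟩
    · rcases B.cases hy1 hy1x hy hr hrx (hsq r) with h2 | h2
      · exact absurd h2 hrP
      · have hcrx : c1 * r * x = x * (c1 * r) := by
          rw [mul_assoc, hrx, ← mul_assoc, hc1x, mul_assoc]
        refine ⟨c1 * r, H.mul_mem hc1 hr, hcrx, hc1rL, B.cent_of hy (H.mul_mem hc1 hr) hcrx (hsq _) ?_⟩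
        set k1 := c1 * y1 * c1⁻¹ * y1 with hk1
        set k2 := r * y1 * r⁻¹ * y1 with hk2
        have hKP : zpowers x ≤ P := by rw [zpowers_le]; exact B.xP
        have e1 : c1 * y1 * c1⁻¹ = k1 * y1⁻¹ := by rw [hk1]; group
        have e2 : r * y1 * r⁻¹ = k2 * y1⁻¹ := by rw [hk2]; group
        have e3 : c1 * k2 = k2 * c1 := comm_zpow hc1x h2
        have e4 : y1 * k1⁻¹ = k1⁻¹ * y1 := B.comm _ hy1 _ (P.inv_mem (hKP h1))
        have e5 : c1 * r * y1 * (c1 * r)⁻¹ * y1⁻¹ = k2 * k1⁻¹ := by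
          calc c1 * r * y1 * (c1 * r)⁻¹ * y1⁻¹ = c1 * (r * y1 * r⁻¹) * c1⁻¹ * y1⁻¹ := by group
            _ = c1 * (k2 * y1⁻¹) * c1⁻¹ * y1⁻¹ := by rw [e2]
            _ = (c1 * k2) * y1⁻¹ * c1⁻¹ * y1⁻¹ := by group
            _ = (k2 * c1) * y1⁻¹ * c1⁻¹ * y1⁻¹ := by rw [e3]
            _ = k2 * (c1 * y1 * c1⁻¹)⁻¹ * y1⁻¹ := by group
            _ = k2 * (k1 * y1⁻¹)⁻¹ * y1⁻¹ := by rw [e1]
            _ = k2 * (y1 * k1⁻¹) * y1⁻¹ := by group
            _ = k2 * (k1⁻¹ * y1) * y1⁻¹ := by rw [e4]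
            _ = _ := by group
        rw [e5]
        exact mul_mem h2 (inv_mem h1)
  refine ⟨c, hc, r, hr, hcL, hrL, ?_, hsq c, hsq r, hcP, hrx, hrP⟩
  intro h1
  apply hrP
  have hcrx : c * r * x = x * (c * r) := by
    rw [mul_assoc, hrx, ← mul_assoc, hcx, mul_assoc]
  have h2 := B.mem_Z (H.mul_mem hc hr) h1 hcrx
  intro y hyP
  have h3 : r = c⁻¹ * (c * r) := by group
  have h4 : Commute c y := hcP y hyP
  have h5 : Commute (c * r) y := B.zc h2 y
  rw [h3]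
  exact (h4.inv_left.mul_left h5).eq

end BF

section

variable {Γ : Type u} [Group Γ] [Finite Γ] {Z : Subgroup Γ} [Z.Normal] {P : Sylow 3 Γ} {S : Subgroup (Γ ⧸ Z)}
  {H : Subgroup Γ} {x : Γ}

theorem outer (hA : GoalAut.{u}) (h : CenSit Z P S)
    (B : BF Z (S.comap (QuotientGroup.mk' Z)) (P : Subgroup Γ) H x) :
    Outer (S.comap (QuotientGroup.mk' Z)) (P : Subgroup Γ) H x := by
  have f3 : Fact (Nat.Prime 3) := ⟨Nat.prime_three⟩
  have hSn := h.normal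
  have hs : Function.Surjective (QuotientGroup.mk' Z) := QuotientGroup.mk'_surjective Z
  have hidx : (S.comap (QuotientGroup.mk' Z)).index = S.index := Subgroup.index_comap_of_surjective _ hs
  have h3 : ¬ 3 ∣ S.index := by
    intro h1
    rw [← hidx] at h1
    exact B.Pidx (h1.trans (index_dvd_of_le B.PL))
  unfold Outer
  rcases hA (Γ ⧸ Z) S h.iso h.cent h3 with h1 | h1 | ⟨h1, h2, h4⟩
  · left
    rw [hidx, h1]
  · right
    left
    have h5 : (S.comap (QuotientGroup.mk' Z)).index = 2 := by rw [hidx, h1]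
    exact ⟨h5, B.outer_two h5⟩
  · right
    right
    have h5 : (S.comap (QuotientGroup.mk' Z)).index = 4 := by rw [hidx, h1]
    refine ⟨h5, ?_⟩
    obtain ⟨g, hg⟩ := h4 (P.mapSurjective hs)
    obtain ⟨γ, rfl⟩ := hs g
    refine B.outer_four h5 (fun g => ?_) γ (fun l hl => ?_)
    · rw [mem_comap, map_mul]
      exact h2 _
    · obtain ⟨y, hy, hne⟩ := hg _ (mem_comap.1 hl)
      rw [Sylow.coe_mapSurjective] at hy
      obtain ⟨y0, hy0, rfl⟩ := mem_map.1 hy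
      refine ⟨y0, hy0, fun h6 => hne ?_⟩
      rw [← map_mul, ← map_mul, h6, map_mul]

end

/-- **GOAL FRAME** from GOAL AUT -/
theorem goalFrame (hA : GoalAut.{u}) : GoalFrame.{u} := by
  intro Γ _ _ Z _ P S h
  obtain ⟨H, x, B⟩ := exists_bf h (sf h.iso)
  obtain ⟨d, a, b, hF⟩ := B.exists_frame
  exact ⟨H, x, d, a, b, hF, outer hA h B⟩

end Cfsg.Agent.H423.TI
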