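import Cfsg.Agent.H326.Four.LThree
import Cfsg.Agent.S2476

/-!
# S4819, S4820, row `PSL₃(4)`: local facts on `PSL₃(4)` (helper423)

`SF S` : `|S| = 20160`; the subgroups of order 9 are elementary abelian and contain the centralizers of their nontrivial
elements; the elements of order 3 are conjugate; no elements of order 8.
-/

set_option autoImplicit false

namespace Cfsg.Agent.H423.TI

open Subgroup Cfsg
open Cfsg.Agent.SporadicA.FieldFour Cfsg.Agent.ONType.Psl Cfsg.Agent.ONType.PslCard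
open Cfsg.Agent.CpAut.SmallP.PslFour (finite_PSL3)

universe u

/-- the local facts on `PSL₃(4)` -/
structure SF (S : Type u) [Group S] : Prop where
  card : Nat.card S = 20160
  nine : ∀ Q : Subgroup S, Nat.card Q = 9 → (∀ y ∈ Q, y ^ 3 = 1) ∧ ∀ y ∈ Q, y ≠ 1 → ∀ g : S, g * y = y * g → g ∈ Q
  conj : ∀ x y : S, x ≠ 1 → y ≠ 1 → x ^ 3 = 1 → y ^ 3 = 1 → IsConj x y
  four : ∀ g : S, g ^ 8 = 1 → g ^ 4 = 1

/-! ### the model -/

theorem cent_H : centralizer ({(QuotientGroup.mk H : PSL3)} : Set PSL3) = H326.Four.E := by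
  have hf := finite_PSL3
  symm
  apply Subgroup.eq_of_le_of_card_ge
  · rintro _ ⟨i, j, rfl⟩
    rw [mem_centralizer_singleton_iff]
    have h1 : (QuotientGroup.mk H : PSL3) = H326.Four.eE 1 0 := by
      show (QuotientGroup.mk H : PSL3) = (QuotientGroup.mk (H ^ 1 * H326.Four.B ^ 0) : PSL3)
      rw [pow_one, pow_zero, mul_one]
    rw [h1, H326.Four.eE_mul, H326.Four.eE_mul, add_comm i, add_comm j]
  · rw [H326.Four.card_E]
    exact Nat.le_of_dvd (by norm_num) (BpSpor.LFour.card_three H326.Four.order_H)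

theorem cent_conj {x g : PSL3} (h : g * (QuotientGroup.mk H : PSL3) * g⁻¹ = x) :
    centralizer ({x} : Set PSL3) = (H326.Four.E).map (MulAut.conj g).toMonoidHom := by
  rw [← cent_H]
  ext c
  rw [mem_centralizer_singleton_iff, mem_map]
  constructor
  · intro hc
    refine ⟨g⁻¹ * c * g, ?_, ?_⟩
    · rw [mem_centralizer_singleton_iff]
      have h2 : (QuotientGroup.mk H : PSL3) = g⁻¹ * x * g := by rw [← h]; group
      rw [h2]
      calc g⁻¹ * c * g * (g⁻¹ * x * g) = g⁻¹ * (c * x) * g := by group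
        _ = g⁻¹ * (x * c) * g := by rw [hc]
        _ = g⁻¹ * x * g * (g⁻¹ * c * g) := by group
    · show g * (g⁻¹ * c * g) * g⁻¹ = c
      group
  · rintro ⟨d, hd, rfl⟩
    rw [mem_centralizer_singleton_iff] at hd
    show g * d * g⁻¹ * x = x * (g * d * g⁻¹)
    rw [← h]
    calc g * d * g⁻¹ * (g * (QuotientGroup.mk H : PSL3) * g⁻¹) = g * (d * (QuotientGroup.mk H : PSL3)) * g⁻¹ := by group
      _ = g * ((QuotientGroup.mk H : PSL3) * d) * g⁻¹ := by rw [hd]
      _ = _ := by group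

theorem card_cent_three {x : PSL3} (hx : orderOf x = 3) : Nat.card (centralizer ({x} : Set PSL3)) = 9 := by
  obtain ⟨g, hg⟩ := isConj_iff.1 (H326.Four.conj_H hx)
  rw [cent_conj hg, card_map_of_injective (MulAut.conj g).injective, H326.Four.card_E]

theorem cube_cent {x y : PSL3} (hx : orderOf x = 3) (hy : y ∈ centralizer ({x} : Set PSL3)) : y ^ 3 = 1 := by
  obtain ⟨g, hg⟩ := isConj_iff.1 (H326.Four.conj_H hx)
  rw [cent_conj hg] at hy
  obtain ⟨e, he, rfl⟩ := hy
  show (g * e * g⁻¹) ^ 3 = 1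
  rw [conj_pow]
  have h1 : e ^ 3 = 1 := by
    by_cases h2 : e = 1
    · rw [h2, one_pow]
    · have h3 := pow_orderOf_eq_one e
      rw [H326.Four.order_of_mem he h2] at h3
      exact h3
  rw [h1]
  group

theorem orderOf_three {G : Type*} [Group G] {x : G} (h1 : x ≠ 1) (h3 : x ^ 3 = 1) : orderOf x = 3 := by
  have : Fact (Nat.Prime 3) := ⟨Nat.prime_three⟩
  exact orderOf_eq_prime h3 h1

theorem nine_model (Q : Subgroup PSL3) (hQ : Nat.card Q = 9) :
    (∀ y ∈ Q, y ^ 3 = 1) ∧ ∀ y ∈ Q, y ≠ 1 → ∀ g : PSL3, g * y = y * g → g ∈ Q := by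
  have hf := finite_PSL3
  have : Fact (Nat.Prime 3) := ⟨Nat.prime_three⟩
  have hcomm : ∀ a ∈ Q, ∀ b ∈ Q, a * b = b * a := by
    intro a ha b hb
    have h1 := IsPGroup.isMulCommutative_of_card_eq_prime_sq (p := 3) (G := Q) (by rw [hQ]; norm_num)
    exact congrArg Subtype.val (h1.is_comm.comm (⟨a, ha⟩ : Q) ⟨b, hb⟩)
  -- an element of order three
  obtain ⟨y0, hy0⟩ := exists_prime_orderOf_dvd_card' (G := Q) 3 (by rw [hQ]; norm_num)
  have hy : orderOf (y0 : PSL3) = 3 := by rw [Subgroup.orderOf_coe, hy0]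
  have heq : ∀ y ∈ Q, orderOf y = 3 → Q = centralizer ({y} : Set PSL3) := by
    intro y hyQ hy3
    apply Subgroup.eq_of_le_of_card_ge
    · intro a ha
      rw [mem_centralizer_singleton_iff]
      exact hcomm a ha y hyQ
    · rw [card_cent_three hy3, hQ]
  have hcube : ∀ y ∈ Q, y ^ 3 = 1 := by
    intro y hyQ
    rw [heq _ y0.2 hy] at hyQ
    exact cube_cent hy hyQ
  refine ⟨hcube, fun y hyQ hy1 g hg => ?_⟩
  rw [heq y hyQ (orderOf_three hy1 (hcube y hyQ)), mem_centralizer_singleton_iff]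
  exact hg

theorem sf {S : Type u} [Group S] (h : ∃ (F : Type) (_ : Field F) (_ : Fintype F), Fintype.card F = 4 ∧
    Nonempty (S ≃* Matrix.ProjectiveSpecialLinearGroup (Fin 3) F)) : SF S := by
  obtain ⟨F, _, _, hF, ⟨e0⟩⟩ := h
  obtain ⟨f⟩ := nonempty_psl_equiv (n := Fin 3) F hF
  let e : S ≃* PSL3 := e0.trans f.symm
  refine ⟨?_, ?_, ?_, ?_⟩
  · rw [Nat.card_congr e.toEquiv, card_PSL3]
  · intro Q hQ
    have hQ' : Nat.card (Q.map e.toMonoidHom) = 9 := by
      rw [card_map_of_injective e.injective, hQ]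
    obtain ⟨h1, h2⟩ := nine_model _ hQ'
    refine ⟨fun y hy => ?_, fun y hy hy1 g hg => ?_⟩
    · apply e.injective
      rw [map_pow, map_one]
      exact h1 _ (mem_map_of_mem _ hy)
    · have h3 := h2 (e y) (mem_map_of_mem _ hy) (fun h => hy1 (e.injective (by rw [h, map_one]))) (e g)
        (by rw [← map_mul, hg, map_mul])
      obtain ⟨q, hq, hqg⟩ := mem_map.1 h3
      have : q = g := e.injective hqg
      rwa [← this]
  · intro x y hx hy hx3 hy3
    have key : ∀ x : S, x ≠ 1 → x ^ 3 = 1 → orderOf (e x) = 3 := by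
      intro x hx hx3
      rw [MulEquiv.orderOf_eq, orderOf_three hx hx3]
    obtain ⟨g, hg⟩ := isConj_iff.1 (H326.Four.conj_three (key x hx hx3) (key y hy hy3))
    refine isConj_iff.2 ⟨e.symm g, e.injective ?_⟩
    rw [map_mul, map_mul, map_inv, e.apply_symm_apply, hg]
  · intro g hg
    have : Fact (Nat.Prime 2) := ⟨Nat.prime_two⟩
    have hc : CharP F 2 := charP_of_card_eq_prime_pow (p := 2) (f := 2) (by rw [hF]; norm_num)
    have h1 : orderOf (e0 g) ∈ Set.range (orderOf : Matrix.ProjectiveSpecialLinearGroup (Fin 3) F → ℕ) := ⟨_, rfl⟩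
    rw [Cfsg.Agent.S2476.result 2, hF, MulEquiv.orderOf_eq] at h1
    have h8 : orderOf g ∣ 8 := orderOf_dvd_of_pow_eq_one hg
    have h4 : orderOf g ∣ 4 := by
      have e1 : (4 ^ 2 + 4 + 1) / Nat.gcd 3 (4 - 1) = 7 := by norm_num
      have e2 : (4 ^ 2 - 1) / Nat.gcd 3 (4 - 1) = 5 := by norm_num
      have e3 : 2 * (4 - 1) / Nat.gcd 3 (4 - 1) = 2 := by norm_num
      rcases h1 with h1 | h1 | h1 | h1 | ⟨-, h1⟩
      · rw [e1] at h1
        have := Nat.dvd_gcd h8 h1
        exact this.trans (by norm_num)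
      · rw [e2] at h1
        have := Nat.dvd_gcd h8 h1
        exact this.trans (by norm_num)
      · have := Nat.dvd_gcd h8 h1
        exact this.trans (by norm_num)
      · rw [e3] at h1
        exact h1.trans (by norm_num)
      · exact h1
    exact orderOf_dvd_iff_pow_eq_one.1 h4

end Cfsg.Agent.H423.TI
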