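import Cfsg.Agent.H155.TI.Defs
import Cfsg.Agent.H423.TI.Facts

/-!
# S4819, S4820, row `PSL₃(4)`: the complement `H` (helper423)

`BF Z L P H x` : the part of `Frame` which does not mention `d`, `a`, `b`, and `h ^ 8 ∈ Z → h ^ 4 ∈ Z`.
`exists_bf` : it exists.
-/

set_option autoImplicit false

namespace Cfsg.Agent.H423.TI

open Subgroup Cfsg Cfsg.Agent.H155.TI
open scoped Pointwise

universe u

/-- the part of `Frame` without `d`, `a`, `b` -/
structure BF {Γ : Type u} [Group Γ] (Z L P H : Subgroup Γ) (x : Γ) : Prop where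
  Zc : Z ≤ Subgroup.center Γ
  Z3 : ¬ 3 ∣ Nat.card Z
  ZH : Z ≤ H
  ZL : Z ≤ L
  Ln : L.Normal
  PL : P ≤ L
  Pc : Nat.card P = 9
  P3 : ∀ y ∈ P, y ^ 3 = 1
  Pidx : ¬ 3 ∣ P.index
  HN : H ≤ Subgroup.normalizer (P : Set Γ)
  H3 : ¬ 3 ∣ Nat.card H
  N : ∀ g ∈ Subgroup.normalizer (P : Set Γ), ∃ y ∈ P, ∃ h ∈ H, g = y * h
  HL : ∀ g : Γ, ∃ l ∈ L, ∃ h ∈ H, g = l * h
  xP : x ∈ P
  x1 : x ≠ 1
  tr : ∀ y ∈ P, y ≠ 1 → ∃ h ∈ H, h ∈ L ∧ h * x * h⁻¹ = y
  cH : ∀ h ∈ H, h ∈ L → ∀ y ∈ P, y ≠ 1 → h * y = y * h → h ∈ Z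
  cL : ∀ g ∈ L, ∀ y ∈ P, y ≠ 1 → g * y = y * g → ∃ y' ∈ P, ∃ z ∈ Z, g = y' * z
  ti : ∀ (g : Γ), ∀ y ∈ P, y ≠ 1 → g * y * g⁻¹ ∈ P → g ∈ Subgroup.normalizer (P : Set Γ)
  four : ∀ h ∈ L, h ^ 8 ∈ Z → h ^ 4 ∈ Z

section

variable {Γ : Type u} [Group Γ] [Finite Γ] {Z : Subgroup Γ} [Z.Normal] {P : Sylow 3 Γ} {S : Subgroup (Γ ⧸ Z)}

omit [Finite Γ] [Z.Normal] in
theorem eq_one_of_mem (h3 : ¬ 3 ∣ Nat.card Z) {y : Γ} (hy : y ∈ (P : Subgroup Γ)) (hz : y ∈ Z) : y = 1 := by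
  have f3 : Fact (Nat.Prime 3) := ⟨Nat.prime_three⟩
  obtain ⟨k, hk⟩ := P.isPGroup' ⟨y, hy⟩
  have h1 : y ^ 3 ^ k = 1 := congrArg Subtype.val hk
  have h2 : orderOf y ∣ 3 ^ k := orderOf_dvd_of_pow_eq_one h1
  have h4 : orderOf y ∣ Nat.card Z := by
    rw [← Subgroup.orderOf_mk y hz]
    exact orderOf_dvd_natCard _
  have h5 : Nat.Coprime (3 ^ k) (Nat.card Z) := Nat.Coprime.pow_left k ((Nat.Prime.coprime_iff_not_dvd Nat.prime_three).2 h3)
  have h6 := Nat.eq_one_of_dvd_coprimes h5 h2 h4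
  exact orderOf_eq_one_iff.1 h6

theorem card_P (h : CenSit Z P S) (hS : SF S) : Nat.card (P : Subgroup Γ) = 9 := by
  have f3 : Fact (Nat.Prime 3) := ⟨Nat.prime_three⟩
  obtain ⟨k, hk⟩ := IsPGroup.iff_card.1 P.isPGroup'
  have hinj : Function.Injective ((QuotientGroup.mk' Z).subgroupMap (P : Subgroup Γ)) := by
    rw [injective_iff_map_eq_one]
    intro y hy
    have h1 : (QuotientGroup.mk' Z) (y : Γ) = 1 := congrArg Subtype.val hy
    exact Subtype.ext (eq_one_of_mem h.z3 y.2 ((QuotientGroup.eq_one_iff _).1 h1))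
  have h1 : Nat.card ((P : Subgroup Γ).map (QuotientGroup.mk' Z)) = 3 ^ k := by
    rw [← hk]
    exact (Nat.card_congr (Equiv.ofBijective _ ⟨hinj, (QuotientGroup.mk' Z).subgroupMap_surjective _⟩)).symm
  have h2 : 3 ^ k ∣ 20160 := by
    rw [← h1, ← hS.card]
    exact card_dvd_of_le h.img
  have hk2 : k ≤ 2 := by
    by_contra hk3
    push Not at hk3
    have : 3 ^ 3 ∣ 20160 := (pow_dvd_pow 3 (by omega)).trans h2
    norm_num at this
  have h4 : 3 ^ 2 ∣ Nat.card Γ := by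
    have h5 : Nat.card (Γ ⧸ Z) ∣ Nat.card Γ := by
      rw [← Subgroup.card_mul_index Z, Subgroup.index_eq_card]
      exact dvd_mul_left _ _
    refine dvd_trans ?_ ((card_subgroup_dvd_card S).trans h5)
    rw [hS.card]
    norm_num
  have h5 : 3 ^ 2 ∣ Nat.card (P : Subgroup Γ) := P.pow_dvd_card_of_pow_dvd_card h4
  rw [hk] at h5 ⊢
  have h6 : 2 ≤ k := (Nat.pow_dvd_pow_iff_le_right (by norm_num)).1 h5
  have : k = 2 := by omega
  rw [this]
  norm_num

theorem exists_bf (h : CenSit Z P S) (hS : SF S) :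
    ∃ (H : Subgroup Γ) (x : Γ), BF Z (S.comap (QuotientGroup.mk' Z)) (P : Subgroup Γ) H x := by
  classical
  have f3 : Fact (Nat.Prime 3) := ⟨Nat.prime_three⟩
  have hP9 := card_P h hS
  have hSn := h.normal
  set π := QuotientGroup.mk' Z with hπ
  set L : Subgroup Γ := S.comap π with hL
  have hLn : L.Normal := hSn.comap π
  have hker : ∀ g : Γ, π g = 1 ↔ g ∈ Z := fun g => QuotientGroup.eq_one_iff g
  have hZL : Z ≤ L := fun z hz => by
    rw [hL, mem_comap, (hker z).2 hz]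
    exact S.one_mem
  have hPL : (P : Subgroup Γ) ≤ L := fun y hy => h.img (mem_map_of_mem _ hy)
  have hzc : ∀ z ∈ Z, ∀ g : Γ, z * g = g * z := fun z hz g => (mem_center_iff.1 (h.cen hz) g).symm
  -- the image of `P` in `S`
  set Q : Subgroup S := ((P : Subgroup Γ).map π).subgroupOf S with hQ
  have hinj : Function.Injective (π.subgroupMap (P : Subgroup Γ)) := by
    rw [injective_iff_map_eq_one]
    intro y hy
    have h1 : π (y : Γ) = 1 := congrArg Subtype.val hy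
    exact Subtype.ext (eq_one_of_mem h.z3 y.2 ((hker _).1 h1))
  have hQ9 : Nat.card Q = 9 := by
    rw [hQ, Nat.card_congr (Subgroup.subgroupOfEquivOfLe h.img).toEquiv, ← hP9]
    exact (Nat.card_congr (Equiv.ofBijective _ ⟨hinj, π.subgroupMap_surjective _⟩)).symm
  obtain ⟨hQ3, hQc⟩ := hS.nine Q hQ9
  have hPne : ∀ y ∈ (P : Subgroup Γ), π y = 1 → y = 1 := fun y hy h1 => eq_one_of_mem h.z3 hy ((hker _).1 h1)
  have hP3 : ∀ y ∈ (P : Subgroup Γ), y ^ 3 = 1 := by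
    intro y hy
    apply hPne _ (pow_mem hy 3)
    have h1 := hQ3 ⟨π y, hPL hy⟩ (mem_subgroupOf.2 (mem_map_of_mem _ hy))
    rw [map_pow]
    exact congrArg Subtype.val h1
  have hcomm : ∀ a ∈ (P : Subgroup Γ), ∀ b ∈ (P : Subgroup Γ), a * b = b * a := by
    intro a ha b hb
    have h1 := IsPGroup.isMulCommutative_of_card_eq_prime_sq (p := 3) (G := (P : Subgroup Γ)) (by rw [hP9]; norm_num)
    exact congrArg Subtype.val (h1.is_comm.comm (⟨a, ha⟩ : (P : Subgroup Γ)) ⟨b, hb⟩)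
  -- centralizers in `L`
  have hcL : ∀ g ∈ L, ∀ y ∈ (P : Subgroup Γ), y ≠ 1 → g * y = y * g → ∃ y' ∈ (P : Subgroup Γ), ∃ z ∈ Z, g = y' * z := by
    intro g hg y hy hy1 hgy
    have h1 := hQc ⟨π y, hPL hy⟩ (mem_subgroupOf.2 (mem_map_of_mem _ hy))
      (fun h2 => hy1 (hPne y hy (congrArg Subtype.val h2))) ⟨π g, hg⟩
      (Subtype.ext (by show π g * π y = π y * π g; rw [← map_mul, hgy, map_mul]))
    obtain ⟨y', hy', h2⟩ := mem_map.1 (mem_subgroupOf.1 h1)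
    have h3 : π y' = π g := h2
    refine ⟨y', hy', y'⁻¹ * g, ?_, by group⟩
    rw [← hker, map_mul, map_inv, h3, inv_mul_cancel]
  have hti : ∀ (g : Γ), ∀ y ∈ (P : Subgroup Γ), y ≠ 1 → g * y * g⁻¹ ∈ (P : Subgroup Γ) →
      g ∈ Subgroup.normalizer ((P : Subgroup Γ) : Set Γ) := by
    intro g y hy hy1 hgy
    by_contra hg
    have h1 := h.ti g hg
    have h2 : g * y * g⁻¹ ∈ (P : Subgroup Γ) ⊓ (MulAut.conj g • (P : Subgroup Γ)) := by
      refine Subgroup.mem_inf.2 ⟨hgy, ?_⟩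
      rw [Subgroup.mem_smul_pointwise_iff_exists]
      exact ⟨y, hy, rfl⟩
    rw [h1, mem_bot] at h2
    apply hy1
    have h3 : y = g⁻¹ * (g * y * g⁻¹) * g := by group
    rw [h3, h2]
    group
  have hPidx : ¬ 3 ∣ (P : Subgroup Γ).index := P.not_dvd_index
  -- the complement
  set N := Subgroup.normalizer ((P : Subgroup Γ) : Set Γ) with hN
  have hPN : (P : Subgroup Γ) ≤ N := le_normalizer
  have hPn : ((P : Subgroup Γ).subgroupOf N).Normal := Subgroup.normal_in_normalizer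
  have hcP : Nat.card ((P : Subgroup Γ).subgroupOf N) = 9 := by
    rw [Nat.card_congr (Subgroup.subgroupOfEquivOfLe hPN).toEquiv, hP9]
  have hidx : ¬ 3 ∣ ((P : Subgroup Γ).subgroupOf N).index := by
    intro h1
    apply hPidx
    rw [← Subgroup.relIndex_mul_index hPN]
    exact h1.mul_right _
  obtain ⟨K, hK⟩ := Subgroup.exists_right_complement'_of_coprime (N := (P : Subgroup Γ).subgroupOf N) (by
    rw [hcP, show (9 : ℕ) = 3 ^ 2 by norm_num]
    exact Nat.Coprime.pow_left 2 ((Nat.Prime.coprime_iff_not_dvd Nat.prime_three).2 hidx))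
  set H := K.map N.subtype with hH
  have hHN : H ≤ N := map_subtype_le K
  have hHc : ¬ 3 ∣ Nat.card H := by
    rw [hH, card_map_of_injective N.subtype_injective, ← hK.symm.index_eq_card]
    exact hidx
  have hNH : ∀ g ∈ N, ∃ y ∈ (P : Subgroup Γ), ∃ k ∈ H, g = y * k := by
    intro g hg
    obtain ⟨⟨y, k⟩, hyk⟩ := hK.2 ⟨g, hg⟩
    refine ⟨(y : N), mem_subgroupOf.1 y.2, (k : N), mem_map_of_mem _ k.2, ?_⟩
    exact (congrArg Subtype.val hyk).symm
  have hHpow : ∀ k ∈ H, k ^ Nat.card H = 1 := by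
    intro k hk
    have := pow_card_eq_one' (x := (⟨k, hk⟩ : H))
    exact congrArg Subtype.val this
  -- an element of `P` killed by a number prime to three
  have hkill : ∀ y ∈ (P : Subgroup Γ), ∀ n : ℕ, ¬ 3 ∣ n → y ^ n = 1 → y = 1 := by
    intro y hy n hn hyn
    have h1 : orderOf y ∣ 3 := orderOf_dvd_of_pow_eq_one (hP3 y hy)
    have h2 : orderOf y ∣ n := orderOf_dvd_of_pow_eq_one hyn
    rcases (Nat.dvd_prime Nat.prime_three).1 h1 with h4 | h4
    · exact orderOf_eq_one_iff.1 h4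
    · rw [h4] at h2
      exact absurd h2 hn
  have hHP : ∀ k ∈ H, k ∈ (P : Subgroup Γ) → k = 1 := fun k hk hkP => hkill k hkP _ hHc (hHpow k hk)
  have hZN : Z ≤ N := le_norm h.cen _
  have hZH : Z ≤ H := by
    intro z hz
    obtain ⟨y, hy, k, hk, hzk⟩ := hNH z (hZN hz)
    have h1 : k = y⁻¹ * z := by rw [hzk]; group
    have h2 : Commute y⁻¹ z := (hzc z hz _).symm
    have h4 := hHpow k hk
    rw [h1, h2.mul_pow] at h4
    have h5 : z ^ Nat.card H = 1 := by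
      refine eq_one_of_mem (P := P) h.z3 ?_ (pow_mem hz _)
      have h6 : z ^ Nat.card H = (y⁻¹ ^ Nat.card H)⁻¹ := by rw [eq_inv_iff_mul_eq_one, ← (h2.pow_pow _ _).eq, h4]
      rw [h6]
      exact inv_mem (pow_mem (inv_mem hy) _)
    rw [h5, mul_one] at h4
    have h6 := hkill _ (inv_mem hy) _ hHc h4
    rw [hzk, inv_eq_one.1 h6, one_mul]
    exact hk
  have hHL : ∀ g : Γ, ∃ l ∈ L, ∃ k ∈ H, g = l * k := by
    intro g
    have h1 := Sylow.normalizer_sup_eq_top (P.subtype hPL)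
    have h2 : ((P.subtype hPL : Sylow 3 L) : Subgroup L).map L.subtype = (P : Subgroup Γ) := by
      rw [Sylow.coe_subtype, subgroupOf_map_subtype, inf_eq_left.2 hPL]
    rw [h2] at h1
    have h3 : g ∈ ((N ⊔ L : Subgroup Γ) : Set Γ) := by
      rw [h1]
      exact mem_top g
    rw [Subgroup.mul_normal] at h3
    obtain ⟨n, hn, l, hl, hnl⟩ := h3
    have hnl' : n * l = g := hnl
    obtain ⟨y, hy, k, hk, hyk⟩ := hNH n hn
    refine ⟨(n * l * n⁻¹) * y, L.mul_mem (hLn.conj_mem l hl n) (hPL hy), k, hk, ?_⟩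
    rw [← hnl', mul_assoc _ y k, ← hyk]
    group
  -- a nontrivial element
  obtain ⟨x0, hx0⟩ : ∃ x0 : (P : Subgroup Γ), x0 ≠ 1 := by
    have : Nontrivial (P : Subgroup Γ) := by
      rw [← Finite.one_lt_card_iff_nontrivial, hP9]
      norm_num
    exact exists_ne 1
  have hx1 : (x0 : Γ) ≠ 1 := fun h1 => hx0 (Subtype.ext h1)
  have hcH : ∀ k ∈ H, k ∈ L → ∀ y ∈ (P : Subgroup Γ), y ≠ 1 → k * y = y * k → k ∈ Z := by
    intro k hk hkL y hy hy1 hky
    obtain ⟨y', hy', z, hz, hkz⟩ := hcL k hkL y hy hy1 hky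
    have h1 : y' ∈ H := by
      have : y' = k * z⁻¹ := by rw [hkz]; group
      rw [this]
      exact H.mul_mem hk (H.inv_mem (hZH hz))
    rw [hkz, hHP y' h1 hy', one_mul]
    exact hz
  refine ⟨H, x0, ⟨h.cen, h.z3, hZH, hZL, hLn, hPL, hP9, hP3, hPidx, hHN, hHc, hNH, hHL, x0.2, hx1, ?_, hcH, hcL, hti,
    ?_⟩⟩
  · intro y hy hy1
    -- conjugation in `S`
    have h1 := hS.conj ⟨π x0, hPL x0.2⟩ ⟨π y, hPL hy⟩ (fun h2 => hx1 (hPne _ x0.2 (congrArg Subtype.val h2)))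
      (fun h2 => hy1 (hPne _ hy (congrArg Subtype.val h2)))
      (Subtype.ext (by show π x0 ^ 3 = 1; rw [← map_pow, hP3 _ x0.2, map_one]))
      (Subtype.ext (by show π y ^ 3 = 1; rw [← map_pow, hP3 _ hy, map_one]))
    obtain ⟨c, hc⟩ := isConj_iff.1 h1
    obtain ⟨l, hl⟩ := QuotientGroup.mk'_surjective Z (c : Γ ⧸ Z)
    have hlL : l ∈ L := by
      rw [hL, mem_comap]
      show π l ∈ S
      rw [hl]
      exact c.2
    have h2 : π (l * x0 * l⁻¹) = π y := by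
      rw [map_mul, map_mul, map_inv]
      show π l * π x0 * (π l)⁻¹ = π y
      rw [hl]
      exact congrArg Subtype.val hc
    -- remove the central factor
    have h4 : l * x0 * l⁻¹ = y := by
      have h5 : y⁻¹ * (l * x0 * l⁻¹) ∈ Z := by rw [← hker, map_mul, map_inv, h2, inv_mul_cancel]
      set z := y⁻¹ * (l * x0 * l⁻¹) with hz
      have h6 : l * x0 * l⁻¹ = y * z := by rw [hz]; group
      have h7 : (l * x0 * l⁻¹) ^ 3 = 1 := by
        rw [conj_pow, hP3 _ x0.2]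
        group
      rw [h6, (show Commute y z from (hzc z h5 y).symm).mul_pow, hP3 y hy, one_mul] at h7
      have h8 : z = 1 := by
        have h9 : orderOf z ∣ 3 := orderOf_dvd_of_pow_eq_one h7
        rcases (Nat.dvd_prime Nat.prime_three).1 h9 with h10 | h10
        · exact orderOf_eq_one_iff.1 h10
        · exfalso
          apply h.z3
          rw [← h10, ← Subgroup.orderOf_mk z h5]
          exact orderOf_dvd_natCard _
      rw [h6, h8, mul_one]
    obtain ⟨p, hp, k, hk, hlk⟩ := hNH l (hti l x0 x0.2 hx1 (by rw [h4]; exact hy))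
    refine ⟨k, hk, ?_, ?_⟩
    · have : k = p⁻¹ * l := by rw [hlk]; group
      rw [this]
      exact L.mul_mem (L.inv_mem (hPL hp)) hlL
    · have h5 : k * x0 * k⁻¹ = p⁻¹ * (l * x0 * l⁻¹) * p := by rw [hlk]; group
      rw [h5, h4, mul_assoc, hcomm y hy p hp]
      group
  · intro k hkL hk8
    have h1 := hS.four ⟨π k, hkL⟩ (Subtype.ext (by
      show π k ^ 8 = 1
      rw [← map_pow, hker]
      exact hk8))
    rw [← hker, map_pow]
    exact congrArg Subtype.val h1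

end

end Cfsg.Agent.H423.TI
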