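import Cfsg.Agent.H423.TI.Base

/-!
# S4819, S4820, row `PSL₃(4)`: the quaternion group (helper423)

* `BF.exists_frame` : the elements `d`, `a`, `b` of `Frame`.
-/

set_option autoImplicit false

namespace Cfsg.Agent.H423.TI

open Subgroup Cfsg Cfsg.Agent.H155.TI

universe u

theorem quat_rel {Γ : Type u} [Group Γ] {a b z2 z3 : Γ} (c2 : ∀ g, z2 * g = g * z2) (c3 : ∀ g, z3 * g = g * z3)
    (hb : b * b = a * a * z2) (hab : a * b * (a * b) = a * a * z3) :
    a * b * a⁻¹ * b⁻¹ = a * a * (z2 * z3⁻¹) ∧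
      (a * b * a⁻¹ * b⁻¹) * (a * b * a⁻¹ * b⁻¹) = 1 ∧ (∀ g, g * a = a * g → g * b = b * g →
        g * (a * b * a⁻¹ * b⁻¹) = (a * b * a⁻¹ * b⁻¹) * g) := by
  set d := a * b * a⁻¹ * b⁻¹ with hd
  have c2' : ∀ g, z2⁻¹ * g = g * z2⁻¹ := fun g => (Commute.inv_left (c2 g : Commute z2 g)).eq
  have c3' : ∀ g, z3⁻¹ * g = g * z3⁻¹ := fun g => (Commute.inv_left (c3 g : Commute z3 g)).eq
  have h1 : b * a * b = a * z3 := by
    have : a * (b * a * b) = a * (a * z3) := by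
      calc a * (b * a * b) = a * b * (a * b) := by group
        _ = a * (a * z3) := by rw [hab]; group
    exact mul_left_cancel this
  have h2 : d⁻¹ = z3 * z2⁻¹ * (a * a)⁻¹ := by
    calc d⁻¹ = (b * a * b) * (b * b)⁻¹ * a⁻¹ := by rw [hd]; group
      _ = (a * z3) * (a * a * z2)⁻¹ * a⁻¹ := by rw [h1, hb]
      _ = a * (z3 * z2⁻¹) * (a * a)⁻¹ * a⁻¹ := by group
      _ = (z3 * z2⁻¹) * a * (a * a)⁻¹ * a⁻¹ := by
          rw [show a * (z3 * z2⁻¹) = (z3 * z2⁻¹) * a by rw [← mul_assoc, ← c3 a, mul_assoc, ← c2' a, ← mul_assoc]]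
      _ = _ := by group
  have h3 : d = a * a * (z2 * z3⁻¹) := by
    calc d = d⁻¹⁻¹ := (inv_inv d).symm
      _ = a * a * (z2 * z3⁻¹) := by rw [h2]; simp only [mul_inv_rev, inv_inv]
  have haa : a * a = b * b * z2⁻¹ := by rw [hb]; group
  have haab : (a * a) * b = b * (a * a) := by
    rw [haa]
    calc b * b * z2⁻¹ * b = b * b * (z2⁻¹ * b) := by group
      _ = b * b * (b * z2⁻¹) := by rw [c2' b]
      _ = b * (b * b * z2⁻¹) := by group
  have hda : ∀ g, g * a = a * g → g * b = b * g → g * d = d * g := by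
    intro g h4 h5
    have : Commute g d := by
      rw [hd]
      exact (((show Commute g a from h4).mul_right (show Commute g b from h5)).mul_right
        (Commute.inv_right (show Commute g a from h4))).mul_right (Commute.inv_right (show Commute g b from h5))
    exact this
  have hcd : d * a = a * d := by
    rw [h3]
    calc a * a * (z2 * z3⁻¹) * a = a * a * (z2 * (z3⁻¹ * a)) := by group
      _ = a * a * (z2 * (a * z3⁻¹)) := by rw [c3' a]
      _ = a * a * ((z2 * a) * z3⁻¹) := by group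
      _ = a * a * ((a * z2) * z3⁻¹) := by rw [c2 a]
      _ = _ := by group
  refine ⟨h3, ?_, hda⟩
  have h4 : b * a * b⁻¹ = d⁻¹ * a := by rw [hd]; group
  have hcd' : a * d⁻¹ = d⁻¹ * a := (Commute.inv_right (show Commute a d from hcd.symm)).eq
  have h5 : b * (a * a) * b⁻¹ = d⁻¹ * d⁻¹ * (a * a) := by
    calc b * (a * a) * b⁻¹ = (b * a * b⁻¹) * (b * a * b⁻¹) := by group
      _ = (d⁻¹ * a) * (d⁻¹ * a) := by rw [h4]
      _ = d⁻¹ * (a * d⁻¹) * a := by group
      _ = d⁻¹ * (d⁻¹ * a) * a := by rw [hcd']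
      _ = _ := by group
  have h6 : b * (a * a) * b⁻¹ = a * a := by rw [← haab]; group
  rw [h6] at h5
  have h7 : d⁻¹ * d⁻¹ = 1 := by
    have := mul_right_cancel (show 1 * (a * a) = d⁻¹ * d⁻¹ * (a * a) by rw [one_mul]; exact h5)
    exact this.symm
  have h8 : (d * d)⁻¹ = 1 := by rw [mul_inv_rev]; exact h7
  exact inv_eq_one.1 h8

/-- commuting up to `d` -/
def Cm {Γ : Type u} [Group Γ] (d u v : Γ) : Prop := u * v = v * u ∨ u * v = d * (v * u)

theorem Cm.mul {Γ : Type u} [Group Γ] {d u v w : Γ} (hd : d * d = 1) (hv : v * d = d * v) (h1 : Cm d u v)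
    (h2 : Cm d u w) : Cm d u (v * w) := by
  rcases h1 with h1 | h1 <;> rcases h2 with h2 | h2
  · left
    rw [← mul_assoc, h1, mul_assoc, h2, ← mul_assoc]
  · right
    rw [← mul_assoc, h1, mul_assoc, h2]
    calc v * (d * (w * u)) = (v * d) * (w * u) := by group
      _ = (d * v) * (w * u) := by rw [hv]
      _ = _ := by group
  · right
    rw [← mul_assoc, h1, mul_assoc, mul_assoc, h2]
    group
  · left
    rw [← mul_assoc, h1]
    calc d * (v * u) * w = d * v * (u * w) := by group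
      _ = d * v * (d * (w * u)) := by rw [h2]
      _ = d * (v * d) * (w * u) := by group
      _ = d * (d * v) * (w * u) := by rw [hv]
      _ = (d * d) * (v * w * u) := by group
      _ = _ := by rw [hd, one_mul]

theorem Cm.symm {Γ : Type u} [Group Γ] {d u v : Γ} (hd : d * d = 1) (h1 : Cm d u v) : Cm d v u := by
  rcases h1 with h1 | h1
  · exact Or.inl h1.symm
  · right
    rw [h1, ← mul_assoc, hd, one_mul]

namespace BF

variable {Γ : Type u} [Group Γ] [Finite Γ] {Z L P H : Subgroup Γ} {x : Γ} (B : BF Z L P H x)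

include B

omit [Finite Γ] in
theorem comm : ∀ a ∈ P, ∀ b ∈ P, a * b = b * a := by
  intro a ha b hb
  have f3 : Fact (Nat.Prime 3) := ⟨Nat.prime_three⟩
  have h1 := IsPGroup.isMulCommutative_of_card_eq_prime_sq (p := 3) (G := P) (by rw [B.Pc]; norm_num)
  exact congrArg Subtype.val (h1.is_comm.comm (⟨a, ha⟩ : P) ⟨b, hb⟩)

omit [Finite Γ] in
theorem zc {z : Γ} (hz : z ∈ Z) (g : Γ) : z * g = g * z := (mem_center_iff.1 (B.Zc hz) g).symm

omit [Finite Γ] in
theorem conj_mem {h y : Γ} (hh : h ∈ H) (hy : y ∈ P) : h * y * h⁻¹ ∈ P := (mem_normalizer_iff.1 (B.HN hh) y).1 hy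

omit [Finite Γ] in
/-- an involution modulo `Z` inverts `P` -/
theorem inv_of_sq {h : Γ} (hh : h ∈ H) (hL : h ∈ L) (h2 : h * h ∈ Z) (hz : h ∉ Z) : ∀ y ∈ P, h * y * h⁻¹ = y⁻¹ := by
  intro y hy
  have hy' := B.conj_mem hh hy
  by_contra hne
  have h3 : y * (h * y * h⁻¹) ≠ 1 := fun h4 => hne (eq_inv_of_mul_eq_one_right h4)
  apply hz
  refine B.cH h hh hL _ (P.mul_mem hy hy') h3 ?_
  have h4 : h * h * y = y * (h * h) := B.zc h2 y
  calc h * (y * (h * y * h⁻¹)) = (h * y * h⁻¹) * ((h * h * y) * h⁻¹) := by group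
    _ = (h * y * h⁻¹) * ((y * (h * h)) * h⁻¹) := by rw [h4]
    _ = (h * y * h⁻¹) * y * h := by group
    _ = y * (h * y * h⁻¹) * h := by rw [B.comm _ hy' _ hy]

omit [Finite Γ] in
/-- two involutions modulo `Z` are equal modulo `Z` -/
theorem uniq {h k : Γ} (hh : h ∈ H) (hL : h ∈ L) (h2 : h * h ∈ Z) (hz : h ∉ Z) (kh : k ∈ H) (kL : k ∈ L)
    (k2 : k * k ∈ Z) (kz : k ∉ Z) : h⁻¹ * k ∈ Z := by
  refine B.cH _ (H.mul_mem (H.inv_mem hh) kh) (L.mul_mem (L.inv_mem hL) kL) x B.xP B.x1 ?_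
  have e1 := B.inv_of_sq hh hL h2 hz x B.xP
  have e2 := B.inv_of_sq kh kL k2 kz x B.xP
  have e3 : h⁻¹ * x⁻¹ * h = x := by rw [← e1]; group
  have e4 : k * x = x⁻¹ * k := by rw [← e2]; group
  calc h⁻¹ * k * x = h⁻¹ * (k * x) := by group
    _ = h⁻¹ * (x⁻¹ * k) := by rw [e4]
    _ = (h⁻¹ * x⁻¹ * h) * (h⁻¹ * k) := by group
    _ = x * (h⁻¹ * k) := by rw [e3]

/-- the group `(H ∩ L) / Z` has order eight -/
theorem index_eight : (Z.subgroupOf (H ⊓ L)).index = 8 := by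
  classical
  have f3 : Fact (Nat.Prime 3) := ⟨Nat.prime_three⟩
  have hfin : Fintype P := Fintype.ofFinite _
  let M := (H ⊓ L : Subgroup Γ)
  let act : M → {y : P // y ≠ 1} := fun h => ⟨⟨(h : Γ) * x * (h : Γ)⁻¹, B.conj_mem h.2.1 B.xP⟩, fun h1 => by
    have h2 : (h : Γ) * x * (h : Γ)⁻¹ = 1 := congrArg Subtype.val h1
    apply B.x1
    have h3 : x = (h : Γ)⁻¹ * ((h : Γ) * x * (h : Γ)⁻¹) * h := by group
    rw [h3, h2]
    group⟩
  have hact : ∀ h k : M, act h = act k ↔ h⁻¹ * k ∈ Z.subgroupOf M := by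
    intro h k
    rw [mem_subgroupOf]
    constructor
    · intro h1
      have h2 : (h : Γ) * x * (h : Γ)⁻¹ = (k : Γ) * x * (k : Γ)⁻¹ := congrArg (fun y => ((y.1 : P) : Γ)) h1
      refine B.cH _ (H.mul_mem (H.inv_mem h.2.1) k.2.1) (L.mul_mem (L.inv_mem h.2.2) k.2.2) x B.xP B.x1 ?_
      show (h : Γ)⁻¹ * k * x = x * ((h : Γ)⁻¹ * k)
      calc (h : Γ)⁻¹ * k * x = (h : Γ)⁻¹ * ((k : Γ) * x * (k : Γ)⁻¹) * k := by group
        _ = (h : Γ)⁻¹ * ((h : Γ) * x * (h : Γ)⁻¹) * k := by rw [h2]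
        _ = _ := by group
    · intro h1
      have h2 := B.zc h1 x
      have h3 : (h : Γ)⁻¹ * k * x = x * ((h : Γ)⁻¹ * k) := h2
      apply Subtype.ext
      apply Subtype.ext
      show (h : Γ) * x * (h : Γ)⁻¹ = (k : Γ) * x * (k : Γ)⁻¹
      calc (h : Γ) * x * (h : Γ)⁻¹ = h * (x * ((h : Γ)⁻¹ * k)) * (k : Γ)⁻¹ := by group
        _ = h * ((h : Γ)⁻¹ * k * x) * (k : Γ)⁻¹ := by rw [h3]
        _ = _ := by group
  have hbij : Function.Bijective (fun q : M ⧸ Z.subgroupOf M => Quotient.liftOn' q act (by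
      intro h k hhk
      exact (hact h k).2 (QuotientGroup.leftRel_apply.1 hhk))) := by
    constructor
    · intro q1 q2
      induction q1 using Quotient.inductionOn' with | _ h => ?_
      induction q2 using Quotient.inductionOn' with | _ k => ?_
      intro h1
      apply Quotient.sound'
      exact QuotientGroup.leftRel_apply.2 ((hact h k).1 h1)
    · rintro ⟨⟨y, hy⟩, hy1⟩
      obtain ⟨h, hh, hL, hxy⟩ := B.tr y hy (fun h1 => hy1 (Subtype.ext h1))
      exact ⟨Quotient.mk'' ⟨h, hh, hL⟩, Subtype.ext (Subtype.ext hxy)⟩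
  rw [Subgroup.index_eq_card, Nat.card_congr (Equiv.ofBijective _ hbij), Nat.card_eq_fintype_card,
    Fintype.card_subtype_compl, Fintype.card_subtype_eq, ← Nat.card_eq_fintype_card, B.Pc]

theorem exists_frame : ∃ d a b : Γ, Frame Z L P H x d a b := by
  classical
  set M := (H ⊓ L : Subgroup Γ) with hM
  have hZn : (Z.subgroupOf M).Normal := ⟨fun z hz g => by
    rw [mem_subgroupOf] at hz ⊢
    have h1 := B.zc hz g
    have h2 : ((g * z * g⁻¹ : M) : Γ) = (g : Γ) * z * (g : Γ)⁻¹ := rfl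
    rw [h2, ← h1]
    simpa using hz⟩
  let V := M ⧸ Z.subgroupOf M
  have hV8 : Nat.card V = 8 := by
    rw [← B.index_eight]
    exact (Subgroup.index_eq_card _).symm
  let q : M →* V := QuotientGroup.mk' _
  have hq : ∀ h k : M, q h = q k ↔ (h : Γ)⁻¹ * k ∈ Z := by
    intro h k
    exact QuotientGroup.eq
  have hq1 : ∀ h : M, q h = 1 ↔ (h : Γ) ∈ Z := fun h => QuotientGroup.eq_one_iff h
  have hsurj : Function.Surjective q := QuotientGroup.mk'_surjective _
  -- uniqueness of the involution of `V`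
  have huniq : ∀ v w : V, v ≠ 1 → w ≠ 1 → v * v = 1 → w * w = 1 → v = w := by
    intro v w hv hw hvv hww
    obtain ⟨h, rfl⟩ := hsurj v
    obtain ⟨k, rfl⟩ := hsurj w
    rw [hq]
    rw [← map_mul, hq1] at hvv hww
    rw [Ne, hq1] at hv hw
    exact B.uniq h.2.1 h.2.2 hvv hv k.2.1 k.2.2 hww hw
  have hfour : ∀ v : V, v ^ 4 = 1 := by
    intro v
    obtain ⟨h, rfl⟩ := hsurj v
    have h8 : q h ^ 8 = 1 := by rw [← hV8]; exact pow_card_eq_one'
    rw [← map_pow, hq1] at h8 ⊢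
    exact B.four h h.2.2 h8
  have hex : ∀ s : Finset V, s.card ≤ 7 → ∃ v, v ∉ s := by
    intro s hs
    by_contra hcon
    push Not at hcon
    have hft : Fintype V := Fintype.ofFinite V
    have h1 : s = Finset.univ := Finset.eq_univ_iff_forall.2 hcon
    rw [h1, Finset.card_univ, ← Nat.card_eq_fintype_card, hV8] at hs
    omega
  -- an element of order four
  obtain ⟨α, hα⟩ : ∃ α : V, α * α ≠ 1 := by
    by_contra hcon
    push Not at hcon
    obtain ⟨v, hv⟩ := hex {1} (by simp)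
    obtain ⟨w, hw⟩ := hex {1, v} (Finset.card_le_two.trans (by norm_num))
    rw [Finset.mem_singleton] at hv
    rw [Finset.mem_insert, Finset.mem_singleton, not_or] at hw
    exact hw.2 (huniq w v hw.1 hv (hcon w) (hcon v))
  have ho : orderOf α = 4 := by
    have h1 : orderOf α ∣ 2 ^ 2 := orderOf_dvd_of_pow_eq_one (hfour α)
    obtain ⟨k, hk, h2⟩ := (Nat.dvd_prime_pow Nat.prime_two).1 h1
    have h3 : k = 2 := by
      by_contra hk2
      have h4 : orderOf α ∣ 2 := by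
        rw [h2, show (2 : ℕ) = 2 ^ 1 by norm_num]
        exact pow_dvd_pow _ (by omega)
      have h5 := orderOf_dvd_iff_pow_eq_one.1 h4
      rw [pow_two] at h5
      exact hα h5
    rw [h2, h3]
    norm_num
  have hidx : (zpowers α).index = 2 := by
    have h1 := (zpowers α).card_mul_index
    rw [Nat.card_zpowers, ho, hV8] at h1
    omega
  have hα4 : (α * α) * (α * α) = 1 := by
    have := hfour α
    rw [← this]
    simp only [pow_succ, pow_zero, one_mul, mul_assoc]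
  obtain ⟨β, hβ⟩ : ∃ β : V, β ∉ zpowers α := by
    by_contra hcon
    push Not at hcon
    have h1 : zpowers α = ⊤ := eq_top_iff.2 fun v _ => hcon v
    rw [h1, index_top] at hidx
    omega
  have hsq : ∀ γ : V, γ ∉ zpowers α → γ * γ = α * α := by
    intro γ hγ
    have h1 : γ ≠ 1 := fun h => hγ (h ▸ one_mem _)
    have h2 : γ * γ ≠ 1 := by
      intro h3
      apply hγ
      rw [huniq γ (α * α) h1 hα h3 hα4]
      exact mul_mem (mem_zpowers α) (mem_zpowers α)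
    refine huniq _ _ h2 hα ?_ hα4
    have := hfour γ
    rw [← this]
    simp only [pow_succ, pow_zero, one_mul, mul_assoc]
  have hαβ : α * β ∉ zpowers α := by
    intro h1
    apply hβ
    have h2 := mul_mem (inv_mem (mem_zpowers α)) h1
    rwa [inv_mul_cancel_left] at h2
  -- the lifts
  obtain ⟨a, ha⟩ := hsurj α
  obtain ⟨b, hb⟩ := hsurj β
  have hbb : ∃ z ∈ Z, (b : Γ) * b = a * a * z := by
    have h1 : q (a * a) = q (b * b) := by rw [map_mul, map_mul, ha, hb, hsq β hβ]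
    rw [hq] at h1
    exact ⟨_, h1, by show (b : Γ) * b = a * a * (((a * a : M) : Γ)⁻¹ * ((b * b : M) : Γ)); push_cast; group⟩
  have habab : ∃ z ∈ Z, (a : Γ) * b * (a * b) = a * a * z := by
    have h1 : q (a * a) = q (a * b * (a * b)) := by
      rw [map_mul, map_mul q (a * b), map_mul q a b, ha, hb, hsq _ hαβ]
    rw [hq] at h1
    exact ⟨_, h1, by
      show (a : Γ) * b * (a * b) = a * a * (((a * a : M) : Γ)⁻¹ * ((a * b * (a * b) : M) : Γ)); push_cast; group⟩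
  obtain ⟨z2, hz2, e2⟩ := hbb
  obtain ⟨z3, hz3, e3⟩ := habab
  obtain ⟨r1, r2, r3⟩ := quat_rel (B.zc hz2) (B.zc hz3) e2 e3
  set d : Γ := (a : Γ) * b * (a : Γ)⁻¹ * (b : Γ)⁻¹ with hd
  have haH := a.2.1
  have haL := a.2.2
  have hbH := b.2.1
  have hbL := b.2.2
  have hdM : d ∈ M := M.mul_mem (M.mul_mem (M.mul_mem a.2 b.2) (M.inv_mem a.2)) (M.inv_mem b.2)
  set w : Γ := z2 * z3⁻¹ with hw
  have hwZ : w ∈ Z := Z.mul_mem hz2 (Z.inv_mem hz3)
  have haa : (a : Γ) * a = d * w⁻¹ := by rw [r1]; group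
  have hdZ : d ∉ Z := by
    intro h1
    have h2 : (a : Γ) * a ∈ Z := by rw [haa]; exact Z.mul_mem h1 (Z.inv_mem hwZ)
    apply hα
    rw [← ha, ← map_mul, hq1]
    exact h2
  -- `V` is generated by `a`, `b`
  have hgen : ∀ h ∈ H, h ∈ L → ∃ z ∈ Z, h = z ∨ h = z * a ∨ h = z * b ∨ h = z * (a * b) ∨
      h = z * d ∨ h = z * (d * a) ∨ h = z * (d * b) ∨ h = z * (d * (a * b)) := by
    intro h hh hL
    have key : ∀ (g : M), q ⟨h, hh, hL⟩ = q g → ∃ z ∈ Z, h = z * g := by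
      intro g hg
      rw [hq] at hg
      have hg' : h⁻¹ * (g : Γ) ∈ Z := hg
      refine ⟨(h⁻¹ * (g : Γ))⁻¹, Z.inv_mem hg', ?_⟩
      have h1 := B.zc (Z.inv_mem hg') g
      rw [h1]
      group
    have hpw : ∀ v : V, v ∈ zpowers α → v = 1 ∨ v = α ∨ v = α * α ∨ v = α * α * α := by
      intro v hv
      rw [mem_zpowers_iff_mem_range_orderOf, ho] at hv
      simp only [Finset.mem_image, Finset.mem_range] at hv
      obtain ⟨n, hn, rfl⟩ := hv
      have : n = 0 ∨ n = 1 ∨ n = 2 ∨ n = 3 := by omega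
      rcases this with rfl | rfl | rfl | rfl
      · left; rw [pow_zero]
      · right; left; rw [pow_one]
      · right; right; left; rw [pow_two]
      · right; right; right; rw [pow_succ, pow_two]
    by_cases hin : q ⟨h, hh, hL⟩ ∈ zpowers α
    · rcases hpw _ hin with h1 | h1 | h1 | h1
      · obtain ⟨z, hz, e⟩ := key 1 (by rw [h1, map_one])
        exact ⟨z, hz, Or.inl (by rw [e]; simp)⟩
      · obtain ⟨z, hz, e⟩ := key a (by rw [h1, ha])
        exact ⟨z, hz, Or.inr (Or.inl e)⟩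
      · obtain ⟨z, hz, e⟩ := key (a * a) (by rw [h1, map_mul, ha])
        refine ⟨z * w⁻¹, Z.mul_mem hz (Z.inv_mem hwZ), Or.inr (Or.inr (Or.inr (Or.inr (Or.inl ?_))))⟩
        rw [e, Subgroup.coe_mul, haa, mul_assoc z, B.zc (Z.inv_mem hwZ) d]
      · obtain ⟨z, hz, e⟩ := key (a * a * a) (by rw [h1, map_mul, map_mul, ha])
        refine ⟨z * w⁻¹, Z.mul_mem hz (Z.inv_mem hwZ), Or.inr (Or.inr (Or.inr (Or.inr (Or.inr (Or.inl ?_)))))⟩
        rw [e, Subgroup.coe_mul, Subgroup.coe_mul, haa, mul_assoc z, ← mul_assoc w⁻¹ d, B.zc (Z.inv_mem hwZ) d]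
    · have h2 : q ⟨h, hh, hL⟩ * β⁻¹ ∈ zpowers α := by
        rw [Subgroup.mul_mem_iff_of_index_two hidx]
        exact ⟨fun h3 => absurd h3 hin, fun h3 => absurd (inv_mem_iff.1 h3) hβ⟩
      have h3 : ∀ v : V, q ⟨h, hh, hL⟩ * β⁻¹ = v → q ⟨h, hh, hL⟩ = v * β := by
        intro v hv
        rw [← hv, inv_mul_cancel_right]
      rcases hpw _ h2 with h1 | h1 | h1 | h1
      · obtain ⟨z, hz, e⟩ := key b (by rw [h3 _ h1, one_mul, hb])
        exact ⟨z, hz, Or.inr (Or.inr (Or.inl e))⟩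
      · obtain ⟨z, hz, e⟩ := key (a * b) (by rw [h3 _ h1, map_mul, ha, hb])
        exact ⟨z, hz, Or.inr (Or.inr (Or.inr (Or.inl e)))⟩
      · obtain ⟨z, hz, e⟩ := key (a * a * b) (by rw [h3 _ h1, map_mul, map_mul, ha, hb])
        refine ⟨z * w⁻¹, Z.mul_mem hz (Z.inv_mem hwZ), Or.inr (Or.inr (Or.inr (Or.inr (Or.inr (Or.inr (Or.inl ?_))))))⟩
        rw [e, Subgroup.coe_mul, Subgroup.coe_mul, haa, mul_assoc z, ← mul_assoc w⁻¹ d, B.zc (Z.inv_mem hwZ) d]
      · obtain ⟨z, hz, e⟩ := key (a * a * (a * b)) (by rw [h3 _ h1, map_mul, map_mul, map_mul, ha, hb]; simp only [mul_assoc])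
        refine ⟨z * w⁻¹, Z.mul_mem hz (Z.inv_mem hwZ), Or.inr (Or.inr (Or.inr (Or.inr (Or.inr (Or.inr (Or.inr ?_))))))⟩
        rw [e, Subgroup.coe_mul, Subgroup.coe_mul, Subgroup.coe_mul, haa, mul_assoc z, ← mul_assoc w⁻¹ d,
          B.zc (Z.inv_mem hwZ) d]
  -- `d` commutes with `a`, `b`
  have hda : d * a = a * d := by
    have h1 : (a : Γ) * a = d * w⁻¹ := haa
    have h2 : d = (a : Γ) * a * w := by rw [h1]; group
    rw [h2, mul_assoc _ w, B.zc hwZ]
    group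
  have hdb : d * b = b * d := by
    have h2 : d = (b : Γ) * b * (z2⁻¹ * w) := by rw [e2, r1]; group
    rw [h2, mul_assoc _ (z2⁻¹ * w), B.zc (Z.mul_mem (Z.inv_mem hz2) hwZ)]
    group
  have hdz : ∀ z ∈ Z, z * d = d * z := fun z hz => B.zc hz d
  -- all commutators are in `{1, d}`
  have step : ∀ u : Γ, Cm d u a → Cm d u b → Cm d u d → ∀ v ∈ H, v ∈ L → Cm d u v := by
    intro u h1 h2 h3 v hv hvL
    have had : (a : Γ) * d = d * a := hda.symm
    have hab : Cm d u (a * b) := h1.mul r2 had h2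
    have hdd : d * d = d * d := rfl
    obtain ⟨z, hz, h4⟩ := hgen v hv hvL
    have hzu : Cm d u z := Or.inl (B.zc hz u).symm
    have hz' := hdz z hz
    rcases h4 with rfl | rfl | rfl | rfl | rfl | rfl | rfl | rfl
    · exact hzu
    · exact hzu.mul r2 hz' h1
    · exact hzu.mul r2 hz' h2
    · exact hzu.mul r2 hz' hab
    · exact hzu.mul r2 hz' h3
    · exact hzu.mul r2 hz' (h3.mul r2 hdd h1)
    · exact hzu.mul r2 hz' (h3.mul r2 hdd h2)
    · exact hzu.mul r2 hz' (h3.mul r2 hdd hab)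
  have hdab : Cm d a b := by
    right
    rw [hd]
    group
  have h1 : ∀ v ∈ H, v ∈ L → Cm d a v := step a (Or.inl rfl) hdab (Or.inl hda.symm)
  have h2 : ∀ v ∈ H, v ∈ L → Cm d b v := step b (hdab.symm r2) (Or.inl rfl) (Or.inl hdb.symm)
  have h3 : ∀ v ∈ H, v ∈ L → Cm d d v := step d (Or.inl hda) (Or.inl hdb) (Or.inl rfl)
  have hall : ∀ u ∈ H, u ∈ L → ∀ v ∈ H, v ∈ L → Cm d u v := fun u hu huL =>
    step u ((h1 u hu huL).symm r2) ((h2 u hu huL).symm r2) ((h3 u hu huL).symm r2)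
  have hLn := B.Ln
  have hd1 : d ≠ 1 := fun h => hdZ (by rw [h]; exact Z.one_mem)
  have hdc : ∀ h ∈ H, h * d = d * h := by
    intro h hh
    have hu : h * a * h⁻¹ ∈ H := H.mul_mem (H.mul_mem hh haH) (H.inv_mem hh)
    have hv : h * b * h⁻¹ ∈ H := H.mul_mem (H.mul_mem hh hbH) (H.inv_mem hh)
    have h4 := hall _ hu (hLn.conj_mem a haL h) _ hv (hLn.conj_mem b hbL h)
    have h5 : h * d * h⁻¹ = (h * a * h⁻¹) * (h * b * h⁻¹) * ((h * b * h⁻¹) * (h * a * h⁻¹))⁻¹ := by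
      rw [hd]; group
    rcases h4 with h4 | h4
    · exfalso
      apply hd1
      rw [h4, mul_inv_cancel] at h5
      have h6 : d = h⁻¹ * (h * d * h⁻¹) * h := by group
      rw [h6, h5]
      group
    · rw [h4, mul_inv_cancel_right] at h5
      calc h * d = (h * d * h⁻¹) * h := by group
        _ = d * h := by rw [h5]
  exact ⟨d, a, b, ⟨B.Zc, B.Z3, B.ZH, B.ZL, B.Ln, B.PL, B.Pc, B.P3, B.Pidx, B.HN, B.H3, B.N, B.HL, B.xP, B.x1,
    hdM.1, hdM.2, r2, hdc, B.inv_of_sq hdM.1 hdM.2 (by rw [r2]; exact Z.one_mem) hdZ, B.tr, B.cH, B.cL, B.ti,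
    haH, haL, hbH, hbL, rfl, ⟨w⁻¹, Z.inv_mem hwZ, haa⟩, ⟨w⁻¹ * z2, Z.mul_mem (Z.inv_mem hwZ) hz2, by
      rw [e2, haa]; group⟩, hgen⟩⟩

end BF

end Cfsg.Agent.H423.TI
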